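import Cfsg.Agent.H389.R.Ctx
import Cfsg.Agent.SignalizersComponents.NoFixedGen

/-!
# S3530: tools for the counting lemma (helper350)
-/

set_option autoImplicit false
set_option linter.unusedSectionVars false

namespace Cfsg.Agent.H350.S3530.CountAux

open Subgroup
open scoped commutatorElement
open Cfsg.Agent.H389.RSq
open Cfsg.Agent.H389.JSq (Has)
open Cfsg.Agent.H381.Tools

universe u v

section basic

variable {X : Type u} [Group X]

theorem le_norm_of {P W : Subgroup X} (h : ∀ g ∈ P, ∀ x ∈ W, g * x * g⁻¹ ∈ W) : P ≤ normalizer (W : Set X) := by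
  intro g hg
  rw [mem_normalizer_iff]
  intro x
  refine ⟨fun hx => h g hg x hx, fun hx => ?_⟩
  have h1 := h g⁻¹ (inv_mem hg) _ hx
  have h2 : g⁻¹ * (g * x * g⁻¹) * g⁻¹⁻¹ = x := by group
  rwa [h2] at h1

theorem conj_mem_of_le {P W : Subgroup X} (h : P ≤ normalizer (W : Set X)) {g x : X} (hg : g ∈ P) (hx : x ∈ W) :
    g * x * g⁻¹ ∈ W :=
  (mem_normalizer_iff.mp (h hg) x).mp hx

theorem le_norm_commutator {P W : Subgroup X} (h : P ≤ normalizer (W : Set X)) :
    P ≤ normalizer ((⁅W, W⁆ : Subgroup X) : Set X) := by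
  apply le_norm_of
  intro g hg x hx
  have h1 : W.map (MulAut.conj g).toMonoidHom ≤ W := by
    rintro _ ⟨y, hy, rfl⟩
    exact conj_mem_of_le h hg hy
  have h2 : (⁅W, W⁆ : Subgroup X).map (MulAut.conj g).toMonoidHom ≤ ⁅W, W⁆ := by
    rw [map_commutator]
    exact commutator_mono h1 h1
  exact h2 ⟨x, hx, rfl⟩

/-- fixed points of `J` on `V` -/
theorem le_norm_fixed {P V J : Subgroup X} (hV : P ≤ normalizer (V : Set X)) (hJ : P ≤ normalizer (J : Set X)) :
    P ≤ normalizer ((V ⊓ centralizer (J : Set X) : Subgroup X) : Set X) := by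
  apply le_norm_of
  rintro g hg x ⟨hx1, hx2⟩
  refine ⟨conj_mem_of_le hV hg hx1, ?_⟩
  intro j hj
  have h1 : g⁻¹ * j * g ∈ J := by
    have := conj_mem_of_le hJ (inv_mem hg) hj
    rwa [inv_inv] at this
  have h2 : (g⁻¹ * j * g) * x = x * (g⁻¹ * j * g) := hx2 _ h1
  calc j * (g * x * g⁻¹) = g * ((g⁻¹ * j * g) * x) * g⁻¹ := by group
    _ = g * (x * (g⁻¹ * j * g)) * g⁻¹ := by rw [h2]
    _ = g * x * g⁻¹ * j := by group

end basic

section fin

variable {X : Type u} [Group X] [Finite X]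

/-- a minimal nontrivial subgroup of `Q` normalised by `P` -/
theorem exists_min {P Q : Subgroup X} (hQ1 : Q ≠ ⊥) (hPQ : P ≤ normalizer (Q : Set X)) :
    ∃ V ≤ Q, V ≠ ⊥ ∧ P ≤ normalizer (V : Set X) ∧
      ∀ W ≤ V, W ≠ ⊥ → P ≤ normalizer (W : Set X) → W = V := by
  have hne : {W : Subgroup X | W ≤ Q ∧ W ≠ ⊥ ∧ P ≤ normalizer (W : Set X)}.Nonempty := ⟨Q, le_rfl, hQ1, hPQ⟩
  obtain ⟨V, hV⟩ := (Set.toFinite _).exists_minimal hne
  refine ⟨V, hV.1.1, hV.1.2.1, hV.1.2.2, fun W hW h1 h2 => ?_⟩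
  exact le_antisymm hW (hV.2 ⟨hW.trans hV.1.1, h1, h2⟩ hW)

theorem comm_of_min {w : ℕ} (hw : w.Prime) {P V : Subgroup X} (hV : IsPGroup w V) (hV1 : V ≠ ⊥)
    (hPV : P ≤ normalizer (V : Set X)) (hmin : ∀ W ≤ V, W ≠ ⊥ → P ≤ normalizer (W : Set X) → W = V) :
    ∀ x ∈ V, ∀ y ∈ V, x * y = y * x := by
  have := Fact.mk hw
  by_cases h : (⁅V, V⁆ : Subgroup X) = ⊥
  · intro x hx y hy
    have h1 : ⁅x, y⁆ ∈ (⁅V, V⁆ : Subgroup X) := commutator_mem_commutator hx hy
    rw [h, mem_bot] at h1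
    exact commutatorElement_eq_one_iff_mul_comm.1 h1
  · exfalso
    have h1 := hmin _ (commutator_le_self V) h (le_norm_commutator hPV)
    have hnil : Group.IsNilpotent V := hV.isNilpotent
    have hs : Group.IsSolvable V := inferInstance
    have h3 : ∀ n, (derivedSeries V n).map V.subtype = V := by
      intro n
      induction n with
      | zero => rw [derivedSeries_zero, ← MonoidHom.range_eq_map, Subgroup.range_subtype]
      | succ n ih => rw [derivedSeries_succ, Subgroup.map_commutator, ih, h1]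
    obtain ⟨n, hn⟩ := (Group.isSolvable_def V).1 hs
    apply hV1
    rw [← h3 n, hn, Subgroup.map_bot]

theorem exp_of_min {w : ℕ} (hw : w.Prime) {P V : Subgroup X} (hV : IsPGroup w V) (hV1 : V ≠ ⊥)
    (hPV : P ≤ normalizer (V : Set X)) (hmin : ∀ W ≤ V, W ≠ ⊥ → P ≤ normalizer (W : Set X) → W = V) :
    ∀ x ∈ V, x ^ w = 1 := by
  have hc := comm_of_min hw hV hV1 hPV hmin
  let W : Subgroup X :=
    { carrier := {x | x ∈ V ∧ x ^ w = 1}
      one_mem' := ⟨one_mem _, one_pow _⟩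
      mul_mem' := fun {a b} ha hb => ⟨mul_mem ha.1 hb.1, by
        rw [(show Commute a b from hc a ha.1 b hb.1).mul_pow, ha.2, hb.2, one_mul]⟩
      inv_mem' := fun {a} ha => ⟨inv_mem ha.1, by rw [inv_pow, ha.2, inv_one]⟩ }
  have hW : W = V := by
    apply hmin
    · exact fun x hx => hx.1
    · obtain ⟨x, hx, hxo⟩ := exists_mem_of_ne_bot hw hV hV1
      intro h
      have h1 : x ∈ W := ⟨hx, by rw [← hxo]; exact pow_orderOf_eq_one x⟩
      rw [h, mem_bot] at h1
      rw [h1, orderOf_one] at hxo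
      exact hw.one_lt.ne hxo
    · apply le_norm_of
      intro g hg x hx
      refine ⟨conj_mem_of_le hPV hg hx.1, ?_⟩
      rw [conj_pow, hx.2, mul_one, mul_inv_cancel]
  intro x hx
  rw [← hW] at hx
  exact hx.2

/-- a `w`-group normalised by `P` centralises the minimal `w`-group `V` -/
theorem le_cent_of_isPGroup {w : ℕ} (hw : w.Prime) {P V J : Subgroup X} (hV : IsPGroup w V) (hV1 : V ≠ ⊥)
    (hPV : P ≤ normalizer (V : Set X)) (hmin : ∀ W ≤ V, W ≠ ⊥ → P ≤ normalizer (W : Set X) → W = V)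
    (hJ : IsPGroup w J) (hJP : J ≤ P) (hPJ : P ≤ normalizer (J : Set X)) : J ≤ centralizer (V : Set X) := by
  have := Fact.mk hw
  have h1 : V ⊓ centralizer (J : Set X) = V := by
    apply hmin _ inf_le_left _ (le_norm_fixed hPV hPJ)
    -- fixed points of a `w`-group on a `w`-group
    intro hbot
    have hact : J ≤ normalizer (V : Set X) := hJP.trans hPV
    let φ : J →* MulAut V := (V.normalizerMonoidHom).comp (Subgroup.inclusion hact)
    let _ : MulAction J V := MulAction.compHom V φ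
    have hcard := hJ.card_modEq_card_fixedPoints V
    have hdvd : w ∣ Nat.card V := Cfsg.Agent.OddOrderLocal.FitCores.dvd_card_of_ne_bot hw hV hV1 le_rfl
    have h2 : w ∣ Nat.card (MulAction.fixedPoints J V) :=
      (Nat.modEq_zero_iff_dvd).1 (hcard.symm.trans ((Nat.modEq_zero_iff_dvd).2 hdvd))
    have h3 : 1 < Nat.card (MulAction.fixedPoints J V) := by
      have h4 : Nat.card (MulAction.fixedPoints J V) ≠ 0 := by
        have h5 : Nonempty (MulAction.fixedPoints J V) := ⟨⟨1, fun j => by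
          change φ j 1 = 1
          exact map_one _⟩⟩
        exact Nat.card_pos.ne'
      have := Nat.le_of_dvd (Nat.pos_of_ne_zero h4) h2
      exact lt_of_lt_of_le hw.one_lt this
    obtain ⟨a, b, hab⟩ := (Finite.one_lt_card_iff_nontrivial.1 h3).exists_pair_ne
    have h5 : ∀ c : MulAction.fixedPoints J V, (c : V) = 1 := by
      intro c
      have h6 : ((c : V) : X) ∈ V ⊓ centralizer (J : Set X) := by
        refine ⟨(c : V).2, fun j hj => ?_⟩
        have h7 := congrArg Subtype.val (c.2 ⟨j, hj⟩)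
        change j * ((c : V) : X) * j⁻¹ = ((c : V) : X) at h7
        exact mul_inv_eq_iff_eq_mul.1 h7
      rw [hbot, mem_bot] at h6
      exact Subtype.ext h6
    exact hab (Subtype.ext ((h5 a).trans (h5 b).symm))
  intro j hj
  intro v hv
  have h2 : v ∈ V ⊓ centralizer (J : Set X) := by rw [h1]; exact hv
  exact (h2.2 j hj).symm

end fin

section central

variable {P L : Type u} [Group P] [Finite P] [Group L] [Finite L]

/-- **central perfect extensions** of a group without multipliers split -/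
theorem ker_eq_bot (π : P →* L) (hπ : Function.Surjective π) (hc : π.ker ≤ center P)
    (hp : ⁅(⊤ : Subgroup P), (⊤ : Subgroup P)⁆ = ⊤)
    (hm : ∀ ℓ : ℕ, ℓ.Prime → ℓ ∣ Nat.card π.ker → NoMult ℓ L) : π.ker = ⊥ := by
  by_contra hne
  have h1 : Nat.card π.ker ≠ 1 := fun h => hne (Subgroup.card_eq_one.1 h)
  obtain ⟨ℓ, hℓ, hd⟩ := Nat.exists_prime_and_dvd h1
  have := Fact.mk hℓ
  -- the `ℓ`-th powers
  let M : Subgroup P :=
    { carrier := {x | ∃ a ∈ π.ker, a ^ ℓ = x}
      one_mem' := ⟨1, one_mem _, one_pow _⟩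
      mul_mem' := by
        rintro _ _ ⟨a, ha, rfl⟩ ⟨b, hb, rfl⟩
        refine ⟨a * b, mul_mem ha hb, ?_⟩
        have hcm : Commute a b := (mem_center_iff.1 (hc hb) a)
        exact hcm.mul_pow ℓ
      inv_mem' := by
        rintro _ ⟨a, ha, rfl⟩
        exact ⟨a⁻¹, inv_mem ha, inv_pow a ℓ⟩ }
  have hMk : M ≤ π.ker := by
    rintro _ ⟨a, ha, rfl⟩
    exact pow_mem ha ℓ
  have hMn : M.Normal := ⟨fun x hx g => by
    have h2 : g * x = x * g := mem_center_iff.1 (hc (hMk hx)) g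
    rw [h2, mul_inv_cancel_right]
    exact hx⟩
  have hMne : M ≠ π.ker := by
    intro h
    let σ : π.ker → π.ker := fun a => ⟨(a : P) ^ ℓ, pow_mem a.2 ℓ⟩
    have hσ : Function.Surjective σ := by
      intro b
      have hb : (b : P) ∈ M := by rw [h]; exact b.2
      obtain ⟨a, ha, hab⟩ := hb
      exact ⟨⟨a, ha⟩, Subtype.ext hab⟩
    have hσi : Function.Injective σ := Finite.injective_iff_surjective.2 hσ
    obtain ⟨c, hc'⟩ := exists_prime_orderOf_dvd_card' ℓ hd
    have h3 : σ c = σ 1 := by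
      apply Subtype.ext
      change (c : P) ^ ℓ = (1 : P) ^ ℓ
      rw [one_pow]
      have h4 : c ^ ℓ = 1 := by rw [← hc']; exact pow_orderOf_eq_one c
      exact congrArg Subtype.val h4
    rw [hσi h3, orderOf_one] at hc'
    exact hℓ.one_lt.ne hc'
  let π' : P ⧸ M →* L := QuotientGroup.lift M π hMk
  have hπ' : ∀ g : P, π' (g : P ⧸ M) = π g := fun g => rfl
  have hker : ∀ g : P, (g : P ⧸ M) ∈ π'.ker ↔ g ∈ π.ker := by
    intro g
    rw [MonoidHom.mem_ker, MonoidHom.mem_ker, hπ']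
  have h2 : π'.ker = ⊥ := by
    refine hm ℓ hℓ hd (P ⧸ M) π' ?_ ?_ ?_ ?_
    · intro y
      obtain ⟨g, rfl⟩ := hπ y
      exact ⟨(g : P ⧸ M), rfl⟩
    · intro x hx
      obtain ⟨g, rfl⟩ := QuotientGroup.mk_surjective x
      rw [hker] at hx
      rw [mem_center_iff]
      intro y
      obtain ⟨k, rfl⟩ := QuotientGroup.mk_surjective y
      rw [← QuotientGroup.mk_mul, ← QuotientGroup.mk_mul, mem_center_iff.1 (hc hx) k]
    · have h3 := congrArg (Subgroup.map (QuotientGroup.mk' M)) hp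
      rwa [map_commutator, map_top_of_surjective _ (QuotientGroup.mk'_surjective M)] at h3
    · rintro ⟨x, hx⟩
      obtain ⟨g, rfl⟩ := QuotientGroup.mk_surjective x
      rw [hker] at hx
      refine ⟨1, Subtype.ext ?_⟩
      change (g : P ⧸ M) ^ ℓ ^ 1 = 1
      rw [pow_one, ← QuotientGroup.mk_pow, QuotientGroup.eq_one_iff]
      exact ⟨g, hx, rfl⟩
  apply hMne
  refine le_antisymm hMk fun g hg => ?_
  rw [← hker, h2, mem_bot, QuotientGroup.eq_one_iff] at hg
  exact hg

end central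

end Cfsg.Agent.H350.S3530.CountAux
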