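import Cfsg.Agent.H350.S3530.CountAux
import Cfsg.Agent.H347.S3530.PslBasics
import Cfsg.Agent.H299.S3530.Counting

/-!
# S3530: the counting lemma, lifted to covers (helper350)
-/

set_option autoImplicit false
set_option linter.unusedSectionVars false

namespace Cfsg.Agent.H389.RSq

open Subgroup
open scoped commutatorElement
open Cfsg.Agent.H389.JSq (Has)
open Cfsg.Agent.H381.Tools
open Cfsg.Agent.H350.S3530.CountAux

universe u v

variable {X Y : Type u} [Group X] [Finite X] [Group Y] [Finite Y] {f : X →* Y}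
  {D P : Subgroup X} {E : Subgroup Y} {H : Set ℕ → Subgroup X}

namespace CountMain

/-- the restriction of `f` -/
def res (C : Cov f D E P H) : P →* E :=
  (f.comp P.subtype).codRestrict E fun x => C.mem_map x.2

theorem res_apply (C : Cov f D E P H) (x : P) : ((res C x : E) : Y) = f x := rfl

theorem res_surj (C : Cov f D E P H) : Function.Surjective (res C) := by
  rintro ⟨y, hy⟩
  have h1 : y ∈ P.map f := by rw [C.map]; exact hy
  obtain ⟨x, hx, rfl⟩ := h1
  exact ⟨⟨x, hx⟩, rfl⟩

theorem mem_ker (C : Cov f D E P H) (x : P) : x ∈ (res C).ker ↔ (x : X) ∈ P ⊓ f.ker := by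
  rw [MonoidHom.mem_ker, mem_inf, MonoidHom.mem_ker]
  constructor
  · intro h
    exact ⟨x.2, congrArg Subtype.val h⟩
  · rintro ⟨-, h⟩
    exact Subtype.ext h

theorem card_ker (C : Cov f D E P H) : Nat.card (res C).ker = Nat.card (P ⊓ f.ker : Subgroup X) := by
  have h : (res C).ker = (P ⊓ f.ker).subgroupOf P := by
    ext x
    rw [mem_ker, mem_subgroupOf]
  rw [h]
  exact Nat.card_congr (subgroupOfEquivOfLe inf_le_left).toEquiv

theorem ker_eq (C : Cov f D E P H) : (res C).ker = (P ⊓ f.ker).subgroupOf P := by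
  ext x
  rw [mem_ker, mem_subgroupOf]

theorem isPGroup_of_hall {ℓ : ℕ} {J N : Subgroup X} (h : Cfsg.IsPiHallOf {ℓ} J N) : IsPGroup ℓ J := by
  have h1 : Nat.card J = ℓ ^ (Nat.card J).primeFactorsList.length :=
    Nat.eq_prime_pow_of_unique_prime_dvd Nat.card_pos.ne' (fun {q} hq hd => h.2.1 q hq hd)
  exact IsPGroup.of_card h1

/-- normal subgroups of `P` -/
theorem eq_top_or_le_ker (C : Cov f D E P H) (hE : IsSimpleGroup E) (T : Subgroup P) [T.Normal] :
    T = ⊤ ∨ T ≤ (res C).ker := by
  have h1 : (T.map (res C)).Normal := Subgroup.Normal.map inferInstance _ (res_surj C)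
  rcases hE.eq_bot_or_eq_top_of_normal _ h1 with h | h
  · right
    exact (map_eq_bot_iff T).1 h
  · left
    have h2 : (T.map P.subtype).map f = E := by
      apply le_antisymm
      · rintro _ ⟨_, ⟨x, -, rfl⟩, rfl⟩
        exact C.mem_map x.2
      · intro y hy
        have h3 : (⟨y, hy⟩ : E) ∈ T.map (res C) := by rw [h]; trivial
        obtain ⟨x, hx, hxy⟩ := h3
        exact ⟨x, ⟨x, hx, rfl⟩, congrArg Subtype.val hxy⟩
    have h3 := C.min _ (map_subtype_le T) h2
    rw [eq_top_iff]
    intro x _
    have h4 : (x : X) ∈ T.map P.subtype := by rw [h3]; exact x.2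
    obtain ⟨y, hy, hxy⟩ := h4
    have : y = x := Subtype.ext hxy
    rwa [← this]

end CountMain

open CountMain

theorem Cov.counting (C : Cov f D E P H) (hs : Group.IsSolvable (D ⊓ f.ker : Subgroup X))
    (hodd : Odd (Nat.card (D ⊓ f.ker : Subgroup X))) {s e : ℕ} (hL : IsL2 s e E) (hs2 : s ≠ 2)
    (hm : ∀ ℓ : ℕ, ℓ.Prime → ℓ ≠ 2 → NoMult ℓ E) {p w : ℕ} (hp : p.Prime) (hp2 : p ≠ 2) (hpu : p ∣ s ^ e + 1)
    (hw : w.Prime) (hwu : ¬ w ∣ s ^ e * (s ^ e + 1)) (hZp : ¬ p ∣ Nat.card (P ⊓ f.ker : Subgroup X))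
    (hZs : ¬ s ∣ Nat.card (P ⊓ f.ker : Subgroup X)) {Q : Subgroup X} (hQ : IsPGroup w Q) (hQ1 : Q ≠ ⊥)
    (hPQ : P ≤ normalizer (Q : Set X)) :
    ∃ x ∈ P, (orderOf x = p ∨ orderOf x = s) ∧ Q ⊓ centralizer {x} ≠ ⊥ := by
  classical
  by_contra hcon
  push Not at hcon
  have hsp : s.Prime := hL.psl.1
  have hes : IsSimpleGroup E := hL.simple
  have hpf := Fact.mk hp
  have hsf := Fact.mk hsp
  have he0 : e ≠ 0 := by
    rintro rfl
    have := hL.odd
    simp at this
  have hwp : w ≠ p := by
    rintro rfl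
    exact hwu (hpu.mul_left _)
  have hcard := hL.psl.card_odd hs2
  have hpE : p ∣ Nat.card E := by
    have h1 : p ∣ 2 * Nat.card E := by rw [hcard]; exact hpu.mul_left _
    exact (hp.dvd_mul.1 h1).resolve_left fun h => hp2 ((Nat.prime_dvd_prime_iff_eq hp Nat.prime_two).1 h)
  have hsE : s ∣ Nat.card E := by
    have h1 : s ∣ 2 * Nat.card E := by
      rw [hcard, mul_assoc]; exact (dvd_pow_self s he0).mul_right _
    exact (hsp.dvd_mul.1 h1).resolve_left fun h => hs2 ((Nat.prime_dvd_prime_iff_eq hsp Nat.prime_two).1 h)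
  -- lifts
  obtain ⟨x₀, hx₀⟩ := exists_prime_orderOf_dvd_card' p hpE
  obtain ⟨y₀, hy₀⟩ := exists_prime_orderOf_dvd_card' s hsE
  obtain ⟨x, hx, hxo⟩ := H389.JSq.exists_lift_surj (res C) (res_surj C) hx₀ (by
    rw [card_ker]; exact (Nat.Prime.coprime_iff_not_dvd hp).2 hZp)
  obtain ⟨y, hy, hyo⟩ := H389.JSq.exists_lift_surj (res C) (res_surj C) hy₀ (by
    rw [card_ker]; exact (Nat.Prime.coprime_iff_not_dvd hsp).2 hZs)
  -- the minimal subgroup
  obtain ⟨V, hVQ, hV1, hPV, hmin⟩ := exists_min hQ1 hPQ
  have hVw : IsPGroup w V := hQ.to_le hVQ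
  have hVc := comm_of_min hw hVw hV1 hPV hmin
  have hVe := exp_of_min hw hVw hV1 hPV hmin
  have hfix : ∀ z : P, (orderOf z = p ∨ orderOf z = s) → V ⊓ centralizer {(z : X)} = ⊥ := by
    intro z hz
    rw [eq_bot_iff, ← hcon z z.2 (by rwa [Subgroup.orderOf_coe])]
    exact inf_le_inf_right _ hVQ
  -- the kernel of the action
  let act : P →* MulAut V := (V.normalizerMonoidHom).comp (Subgroup.inclusion hPV)
  have hact : ∀ (g : P) (v : V), ((act g v : V) : X) = g * v * (g : X)⁻¹ := fun g v => rfl
  set T := act.ker with hT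
  have hTmem : ∀ g : P, g ∈ T ↔ (g : X) ∈ centralizer (V : Set X) := by
    intro g
    rw [hT, MonoidHom.mem_ker]
    constructor
    · intro h v hv
      have h1 := congrArg Subtype.val (DFunLike.congr_fun h ⟨v, hv⟩)
      rw [hact] at h1
      change (g : X) * v * (g : X)⁻¹ = v at h1
      exact (mul_inv_eq_iff_eq_mul.1 h1).symm
    · intro h
      apply MulEquiv.ext
      intro v
      apply Subtype.ext
      rw [hact]
      change _ = (v : X)
      rw [← h v v.2, mul_inv_cancel_right]
  have hx1 : x ≠ 1 := by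
    rintro rfl
    rw [orderOf_one] at hxo
    exact hp.one_lt.ne hxo
  have hTk : T ≤ (res C).ker := by
    rcases eq_top_or_le_ker C hes T with h | h
    · exfalso
      apply hV1
      rw [← hfix x (Or.inl hxo), left_eq_inf]
      intro v hv
      have h1 : x ∈ T := by rw [h]; trivial
      rw [hTmem] at h1
      rw [mem_cent_iff]
      exact (h1 v hv).symm
    · exact h
  -- the Sylow subgroups of the kernel
  obtain ⟨J, hJ⟩ := C.exists_J hs
  have hoddk : Odd (Nat.card (P ⊓ f.ker : Subgroup X)) := by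
    refine Odd.of_dvd_nat hodd (card_dvd_of_le C.ker_le)
  have hcentral : ∀ k ∈ (res C).ker, ∀ g : P, ⁅k, g⁆ ∈ T := by
    have key : ∀ ℓ : ℕ, ℓ.Prime → ∀ j : P, (j : X) ∈ J ℓ → ∀ g : P, ⁅j, g⁆ ∈ T := by
      intro ℓ hℓ
      have := Fact.mk hℓ
      have hJk : J ℓ ≤ P ⊓ f.ker := (hJ ℓ).1.1
      have hJp : IsPGroup ℓ (J ℓ) := isPGroup_of_hall (hJ ℓ).1
      by_cases hℓw : ℓ = w
      · subst hℓw
        have h1 := le_cent_of_isPGroup hw hVw hV1 hPV hmin hJp (hJk.trans inf_le_left) (hJ ℓ).2
        intro j hj g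
        have hjT : j ∈ T := (hTmem j).2 (h1 hj)
        rw [commutatorElement_def, mul_assoc, mul_assoc]
        exact mul_mem hjT (by
          rw [← mul_assoc]
          exact (inferInstance : T.Normal).conj_mem _ (inv_mem hjT) g)
      by_cases hJ1 : J ℓ = ⊥
      · intro j hj g
        rw [hJ1, mem_bot] at hj
        have : j = 1 := Subtype.ext hj
        rw [this, commutatorElement_one_left]
        exact one_mem _
      have hℓd : ℓ ∣ Nat.card (P ⊓ f.ker : Subgroup X) :=
        (Cfsg.Agent.OddOrderLocal.FitCores.dvd_card_of_ne_bot hℓ hJp hJ1 le_rfl).trans (card_dvd_of_le hJk)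
      have hℓ2 : ℓ ≠ 2 := by
        rintro rfl
        exact (Nat.not_even_iff_odd.2 hoddk) (even_iff_two_dvd.2 hℓd)
      have hℓp : p ≠ ℓ := by
        rintro rfl
        exact hZp hℓd
      have htool := tool (G := X) hp hℓ hw hℓp (Ne.symm hℓw) hwp
        (Cfsg.Agent.SignalizersComponents.NoFixedGen.noFixed hp (π := {ℓ}) fun h => absurd h.symm hℓ2)
        (V := V) (X := J ℓ) (h := (x : X)) hVw hJp (by rw [Subgroup.orderOf_coe, hxo]) (hPV x.2) ((hJ ℓ).2 x.2)
        ((hJk.trans inf_le_left).trans hPV) (hfix x (Or.inl hxo))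
      -- the normal subgroup of the elements acting trivially on `J T / T`
      let J' : Subgroup P := (J ℓ).subgroupOf P
      have hJ'n : J'.Normal := by
        rw [normal_subgroupOf_iff_le_normalizer (hJk.trans inf_le_left)]
        exact (hJ ℓ).2
      let R : Subgroup P := (centralizer ((J'.map (QuotientGroup.mk' T) : Subgroup (P ⧸ T)) : Set (P ⧸ T))).comap (QuotientGroup.mk' T)
      have hmap : (J'.map (QuotientGroup.mk' T)).Normal := Subgroup.Normal.map hJ'n _ (QuotientGroup.mk'_surjective T)
      have hRn : R.Normal := by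
        have : (centralizer ((J'.map (QuotientGroup.mk' T) : Subgroup (P ⧸ T)) : Set (P ⧸ T))).Normal :=
          Subgroup.normal_centralizer
        exact this.comap _
      have hRmem : ∀ g : P, g ∈ R ↔ ∀ j ∈ J', ⁅j, g⁆ ∈ T := by
        intro g
        rw [mem_comap, mem_centralizer_iff]
        constructor
        · intro h j hj
          have h1 := h _ (mem_map_of_mem (QuotientGroup.mk' T) hj)
          rw [← QuotientGroup.eq_one_iff]
          have h2 : ((⁅j, g⁆ : P) : P ⧸ T) = ⁅(j : P ⧸ T), (g : P ⧸ T)⁆ := rfl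
          rw [h2, commutatorElement_eq_one_iff_mul_comm]
          exact h1
        · rintro h _ ⟨j, hj, rfl⟩
          have h1 := h j hj
          rw [← QuotientGroup.eq_one_iff] at h1
          have h2 : ((⁅j, g⁆ : P) : P ⧸ T) = ⁅(j : P ⧸ T), (g : P ⧸ T)⁆ := rfl
          rw [h2, commutatorElement_eq_one_iff_mul_comm] at h1
          exact h1
      have hxR : x ∈ R := by
        rw [hRmem]
        intro j hj
        rw [hTmem]
        exact htool (commutator_mem_commutator hj (mem_zpowers _))
      rcases eq_top_or_le_ker C hes R with h | h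
      · intro j hj g
        have h1 : g ∈ R := by rw [h]; trivial
        exact (hRmem g).1 h1 j hj
      · exfalso
        have h1 := h hxR
        rw [MonoidHom.mem_ker, hx] at h1
        rw [h1, orderOf_one] at hx₀
        exact hp.one_lt.ne hx₀
    -- generation by the Sylow subgroups
    let Z : Subgroup P := (center (P ⧸ T)).comap (QuotientGroup.mk' T)
    have hZmem : ∀ k : P, k ∈ Z ↔ ∀ g : P, ⁅k, g⁆ ∈ T := by
      intro k
      rw [mem_comap, mem_center_iff]
      constructor
      · intro h g
        have h1 := h (g : P ⧸ T)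
        rw [← QuotientGroup.eq_one_iff]
        have h2 : ((⁅k, g⁆ : P) : P ⧸ T) = ⁅(k : P ⧸ T), (g : P ⧸ T)⁆ := rfl
        rw [h2, commutatorElement_eq_one_iff_mul_comm]
        exact h1.symm
      · intro h y
        obtain ⟨g, rfl⟩ := QuotientGroup.mk_surjective y
        have h1 := h g
        rw [← QuotientGroup.eq_one_iff] at h1
        have h2 : ((⁅k, g⁆ : P) : P ⧸ T) = ⁅(k : P ⧸ T), (g : P ⧸ T)⁆ := rfl
        rw [h2, commutatorElement_eq_one_iff_mul_comm] at h1
        exact h1.symm
    have hle : (res C).ker ≤ Z := by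
      have h1 : Z.relIndex (res C).ker = 1 := by
        by_contra h2
        obtain ⟨ℓ, hℓ, hd⟩ := Nat.exists_prime_and_dvd h2
        have hJZ : (J ℓ).subgroupOf P ≤ Z := by
          intro j hj
          rw [hZmem]
          exact key ℓ hℓ j hj
        have h3 := hd.trans (relIndex_dvd_of_le_left (res C).ker hJZ)
        rw [ker_eq, relIndex_subgroupOf inf_le_left] at h3
        exact (hJ ℓ).1.2.2 ℓ hℓ rfl h3
      exact relIndex_eq_one.1 h1
    intro k hk g
    exact (hZmem k).1 (hle hk) g
  -- `T` is the kernel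
  have hTeq : (res C).ker ≤ T := by
    let π : P ⧸ T →* E := QuotientGroup.lift T (res C) hTk
    have hπ : ∀ g : P, π (g : P ⧸ T) = res C g := fun g => rfl
    have hker : ∀ g : P, (g : P ⧸ T) ∈ π.ker ↔ g ∈ (res C).ker := by
      intro g
      rw [MonoidHom.mem_ker, MonoidHom.mem_ker, hπ]
    have h1 : π.ker = ⊥ := by
      apply ker_eq_bot π
      · intro y
        obtain ⟨g, rfl⟩ := res_surj C y
        exact ⟨(g : P ⧸ T), rfl⟩
      · intro z hz
        obtain ⟨k, rfl⟩ := QuotientGroup.mk_surjective z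
        rw [hker] at hz
        rw [mem_center_iff]
        intro y
        obtain ⟨g, rfl⟩ := QuotientGroup.mk_surjective y
        have h1 := hcentral k hz g
        rw [← QuotientGroup.eq_one_iff] at h1
        have h2 : ((⁅k, g⁆ : P) : P ⧸ T) = ⁅(k : P ⧸ T), (g : P ⧸ T)⁆ := rfl
        rw [h2, commutatorElement_eq_one_iff_mul_comm] at h1
        exact h1.symm
      · have hE : ⁅E, E⁆ = E := by
          have h2 := congrArg (Subgroup.map E.subtype) hL.perfect
          rwa [map_commutator, ← MonoidHom.range_eq_map, Subgroup.range_subtype] at h2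
        have hP := C.perfect hE
        have h2 : ⁅(⊤ : Subgroup P), (⊤ : Subgroup P)⁆ = ⊤ := by
          apply map_injective P.subtype_injective
          rw [map_commutator, ← MonoidHom.range_eq_map, Subgroup.range_subtype, hP]
        have h3 := congrArg (Subgroup.map (QuotientGroup.mk' T)) h2
        rwa [map_commutator, map_top_of_surjective _ (QuotientGroup.mk'_surjective T)] at h3
      · intro ℓ hℓ hd
        apply hm ℓ hℓ
        rintro rfl
        have h2 : π.ker = (res C).ker.map (QuotientGroup.mk' T) := by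
          ext z
          obtain ⟨g, rfl⟩ := QuotientGroup.mk_surjective z
          rw [hker]
          constructor
          · intro hg
            exact ⟨g, hg, rfl⟩
          · rintro ⟨k, hk, hkg⟩
            rw [← hker, ← hkg]
            exact (hker k).2 hk
        rw [h2] at hd
        have h3 := hd.trans (card_map_dvd _ _)
        rw [card_ker] at h3
        exact (Nat.not_even_iff_odd.2 hoddk) (even_iff_two_dvd.2 h3)
    intro g hg
    rw [← hker, h1, mem_bot, QuotientGroup.eq_one_iff] at hg
    exact hg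
  -- the action of `E`
  let ψ : E →* MulAut V := (QuotientGroup.lift (res C).ker act hTeq).comp
    (QuotientGroup.quotientKerEquivOfSurjective (res C) (res_surj C)).symm.toMonoidHom
  have hψ : ∀ g : P, ψ (res C g) = act g := by
    intro g
    have h1 : (QuotientGroup.quotientKerEquivOfSurjective (res C) (res_surj C)).symm (res C g) =
        (g : P ⧸ (res C).ker) := by
      rw [MulEquiv.symm_apply_eq]
      rfl
    change QuotientGroup.lift (res C).ker act hTeq
      ((QuotientGroup.quotientKerEquivOfSurjective (res C) (res_surj C)).symm (res C g)) = act g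
    rw [h1]
    rfl
  let _ : CommGroup V := { (inferInstance : Group V) with mul_comm := fun a b => Subtype.ext (hVc a a.2 b b.2) }
  let _ : DistribMulAction E (Additive V) :=
    { smul := fun a v => Additive.ofMul (ψ a v.toMul)
      one_smul := fun v => by
        change Additive.ofMul (ψ 1 v.toMul) = v
        rw [map_one]; rfl
      mul_smul := fun a b v => by
        change Additive.ofMul (ψ (a * b) v.toMul) = Additive.ofMul (ψ a (ψ b v.toMul))
        rw [map_mul]; rfl
      smul_zero := fun a => by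
        change Additive.ofMul (ψ a 1) = Additive.ofMul 1
        rw [map_one]
      smul_add := fun a v w => by
        change Additive.ofMul (ψ a (v.toMul * w.toMul)) = Additive.ofMul (ψ a v.toMul * ψ a w.toMul)
        rw [map_mul] }
  have hnt : Nontrivial (Additive V) := by
    have : Nontrivial V := (Subgroup.nontrivial_iff_ne_bot V).2 hV1
    exact inferInstanceAs (Nontrivial V)
  have hfree : ∀ g : P, (orderOf g = p ∨ orderOf g = s) → ∀ v : Additive V, (res C g) • v = v → v = 0 := by
    intro g hg v hv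
    have h1 : act g v.toMul = v.toMul := by
      rw [← hψ]
      exact congrArg Additive.toMul hv
    have h2 := congrArg Subtype.val h1
    rw [hact] at h2
    have h3 : ((v.toMul : V) : X) ∈ V ⊓ centralizer {(g : X)} := by
      rw [mem_fix]
      exact ⟨(v.toMul).2, mul_inv_eq_iff_eq_mul.1 h2⟩
    rw [hfix g hg, mem_bot] at h3
    have h4 : v.toMul = 1 := Subtype.ext h3
    exact congrArg Additive.ofMul h4
  refine hL.counting hw hwu (V := Additive V) (x := x₀) (y := y₀) (fun v => ?_) ?_ ?_ ?_ hy₀ hs2 ?_ ?_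
  · change Additive.ofMul (v.toMul ^ w) = Additive.ofMul 1
    congr 1
    exact Subtype.ext (hVe _ (v.toMul).2)
  · rw [hx₀]; exact hpu
  · rw [hx₀]
    exact fun h => hp2 ((Nat.prime_dvd_prime_iff_eq Nat.prime_two hp).1 h).symm
  · rintro rfl
    rw [orderOf_one] at hx₀
    exact hp.one_lt.ne hx₀
  · intro v hv
    exact hfree x (Or.inl hxo) v (by rw [hx]; exact hv)
  · intro v hv
    exact hfree y (Or.inr hyo) v (by rw [hy]; exact hv)

end Cfsg.Agent.H389.RSq
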